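import Cfsg.Agent.Lib.Helper19.CY2.EEI

/-! Ladder CY2S: the rungs EEZ (`eez0`), EEI (`eei0`), EES (`ees0`) are all proved in `EEI.lean`. -/
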