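import Cfsg.Agent.Lib.Helper19.CY2.COS

/-! Ladder CY2S, rung TRV: `trv0` is proved in `COS.lean` (helper19); this file only re-exports it,
so that importing both files does not produce a name clash. -/
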